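import Groth.Prelude.Def_RedSub
import Groth.Agent.FpqcDescLib.Basic
import Groth.Agent.SrcDescent.SchemeFppf
import Groth.Agent.S18510

/-!
# Working with fppf quotients of group schemes

A quotient is described on points: two points have the same image exactly when they differ by a point of the
subgroup, and every point of the quotient lifts after a covering.
-/

universe u

open CategoryTheory CategoryTheory.Limits MonoidalCategory CartesianMonoidalCategory MonObj GrpObj AlgebraicGeometry

namespace Groth.Agent.RedQuot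

open Groth.Agent.FpqcDescLib

set_option backward.isDefEq.respectTransparency.types false

variable {S : Scheme.{u}} {G H Q : Over S} [GrpObj G]

theorem comp_act (i : H ⟶ G) {X : Over S} (k : X ⟶ G ⊗ H) :
    k ≫ (G ◁ i) ≫ μ[G] = (k ≫ fst G H) * ((k ≫ snd G H) ≫ i) := by
  rw [Hom.mul_def, ← Category.assoc]
  congr 1
  refine CartesianMonoidalCategory.hom_ext _ _ ?_ ?_ <;> simp

section Quot

variable {i : H ⟶ G} {q : G ⟶ Q} (hq : RedSub.IsQuotient i q)
include hq

theorem covers : Covers q.left := by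
  obtain ⟨_, _, _, -⟩ := hq
  exact covers_of_isCovering (isCovering_of_lfp _)

theorem mul_comp {X : Over S} (a : X ⟶ G) (h : X ⟶ H) : (a * (h ≫ i)) ≫ q = a ≫ q := by
  have h1 := congrArg (lift a h ≫ ·) hq.2.2.2.w
  have h2 := comp_act i (lift a h)
  rw [lift_fst, lift_snd] at h2
  rw [lift_fst_assoc] at h1
  rw [← h2]
  simpa only [Category.assoc] using h1.symm

theorem exists_mul_eq {X : Over S} {a b : X ⟶ G} (h : a ≫ q = b ≫ q) : ∃ x : X ⟶ H, a * (x ≫ i) = b := by
  refine ⟨hq.2.2.2.lift a b h ≫ snd G H, ?_⟩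
  have h1 := comp_act i (hq.2.2.2.lift a b h)
  rw [hq.2.2.2.lift_fst, hq.2.2.2.lift_snd] at h1
  exact h1.symm

/-- A point of the quotient lifts after a covering. -/
theorem exists_lift {X : Over S} (a : X ⟶ Q) :
    ∃ (X' : Over S) (c : X' ⟶ X) (a' : X' ⟶ G), Covers c.left ∧ a' ≫ q = c ≫ a :=
  ⟨pullback a q, pullback.fst a q, pullback.snd a q,
    (covers hq).over_pullback a _ _ (IsPullback.of_hasPullback a q), pullback.condition.symm⟩

/-- Descent of invariant morphisms. -/
theorem desc {K : Over S} (f : G ⟶ K) (hf : ∀ (X : Over S) (a : X ⟶ G) (h : X ⟶ H), (a * (h ≫ i)) ≫ f = a ≫ f) :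
    ∃! f' : Q ⟶ K, q ≫ f' = f :=
  (covers hq).over_desc f fun T a b hab => by
    obtain ⟨x, hx⟩ := exists_mul_eq hq hab
    rw [← hx, hf]

/-- A descended morphism is faithfully flat of finite presentation if the original one is. -/
theorem fppf_of_comp {K : Over S} (f' : Q ⟶ K) (h₁ : Surjective (q ≫ f').left) (h₂ : Flat (q ≫ f').left)
    (h₃ : LocallyOfFinitePresentation (q ≫ f').left) :
    Surjective f'.left ∧ Flat f'.left ∧ LocallyOfFinitePresentation f'.left := by
  obtain ⟨_, _, _, -⟩ := hq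
  rw [Over.comp_left] at h₁ h₂ h₃
  exact ⟨Surjective.of_comp q.left f'.left, S18510.flat_of_comp q.left f'.left,
    SrcDescent.locallyOfFinitePresentation_of_fppf_comp q.left f'.left⟩

end Quot

/-- A factorisation through a monomorphism existing after a covering exists. -/
theorem exists_fac_of_covers {A B X X' : Over S} (i : A ⟶ B) [Mono i] (c : X' ⟶ X) (hc : Covers c.left) (b : X ⟶ B)
    (a' : X' ⟶ A) (h : a' ≫ i = c ≫ b) : ∃ a : X ⟶ A, a ≫ i = b := by
  obtain ⟨a, ha, -⟩ := hc.over_desc a' fun T u v huv => by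
    rw [← cancel_mono i, Category.assoc, Category.assoc, h, reassoc_of% huv]
  haveI := hc.over_epi
  exact ⟨a, by rw [← cancel_epi c, ← Category.assoc, ha, h]⟩

/-- The quotient property read on points. -/
theorem isQuotient_of_points (i : H ⟶ G) [Mono i] (q : G ⟶ Q) (h₁ : Surjective q.left) (h₂ : Flat q.left)
    (h₃ : LocallyOfFinitePresentation q.left)
    (hinv : ∀ (X : Over S) (a : X ⟶ G) (h : X ⟶ H), (a * (h ≫ i)) ≫ q = a ≫ q)
    (hpts : ∀ (X : Over S) (a b : X ⟶ G), a ≫ q = b ≫ q → ∃ x : X ⟶ H, a * (x ≫ i) = b) :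
    RedSub.IsQuotient i q := by
  have w : fst G H ≫ q = ((G ◁ i) ≫ μ[G]) ≫ q := by
    have h := comp_act i (𝟙 (G ⊗ H))
    rw [Category.id_comp, Category.id_comp, Category.id_comp] at h
    rw [h, hinv]
  refine ⟨h₁, h₂, h₃, IsPullback.mk ⟨w⟩ ⟨PullbackCone.IsLimit.mk _
    (fun s => lift s.fst (hpts _ s.fst s.snd s.condition).choose) (fun s => lift_fst _ _) (fun s => ?_)
    fun s m hm₁ hm₂ => ?_⟩⟩
  · rw [comp_act i, lift_fst, lift_snd]
    exact (hpts _ s.fst s.snd s.condition).choose_spec
  · refine CartesianMonoidalCategory.hom_ext _ _ (hm₁.trans (lift_fst _ _).symm) ?_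
    rw [lift_snd, ← cancel_mono i]
    rw [comp_act i, hm₁] at hm₂
    exact mul_left_cancel (hm₂.trans (hpts _ s.fst s.snd s.condition).choose_spec.symm)

end Groth.Agent.RedQuot
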